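import Mathlib
import Groth.Agent.Lib.Helper6.RankOne.Weyl

set_option linter.style.haveILetI false
set_option linter.unusedVariables false
set_option linter.unusedSectionVars false
set_option autoImplicit false

namespace Groth.Agent.Helper7.RankOneOpp

open Groth.Agent.Lib.Helper6.RankOne

variable {Γ R Tg : Type*} [Group Γ] [CommRing R] [Group Tg] (D : Data Γ R Tg)

/-- The opposite Weyl element `w₋(y) = p₋(y) p₊(-y⁻¹) p₋(y)`. -/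
def wm (y : Rˣ) : Γ := D.pm (y : R) * D.pp (-((y⁻¹ : Rˣ) : R)) * D.pm (y : R)

/-- Conjugation by `w(x)` carries `p₊(y)` to `p₋(-x⁻² y)`, provided `x + y` is a unit. -/
theorem conj_pp (x v : Rˣ) (y : R) (hv : (v : R) = (x : R) + y) :
    D.w x * D.pp y * (D.w x)⁻¹ = D.pm (-(((x⁻¹ : Rˣ) : R) ^ 2 * y)) := by
  have hx : (x : R) * ((x⁻¹ : Rˣ) : R) = 1 := Units.mul_inv x
  obtain ⟨u, hu0⟩ : ∃ u : Rˣ, u = v * x⁻¹ := ⟨_, rfl⟩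
  have hud : (u : R) = 1 + y * ((x⁻¹ : Rˣ) : R) := by
    rw [hu0, Units.val_mul, hv]; linear_combination hx
  have hu : (u : R) * ((u⁻¹ : Rˣ) : R) = 1 := Units.mul_inv u
  rw [D.w_inv]
  unfold Data.w
  have e1 : D.pp (x : R) * D.pm (-((x⁻¹ : Rˣ) : R)) * D.pp (x : R) * D.pp y *
      (D.pp (-(x : R)) * D.pm ((x⁻¹ : Rˣ) : R) * D.pp (-(x : R))) =
      D.pp (x : R) * D.pm (-((x⁻¹ : Rˣ) : R)) * (D.pp (x : R) * D.pp y * D.pp (-(x : R))) *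
        D.pm ((x⁻¹ : Rˣ) : R) * D.pp (-(x : R)) := by group
  rw [e1, ← D.pp_add, ← D.pp_add]
  have h1 : (x : R) + y + -(x : R) = y := by ring
  rw [h1]
  have e2 : D.pp (x : R) * D.pm (-((x⁻¹ : Rˣ) : R)) * D.pp y * D.pm ((x⁻¹ : Rˣ) : R) *
      D.pp (-(x : R)) =
      D.pp (x : R) * D.pm (-((x⁻¹ : Rˣ) : R)) * (D.pp y * D.pm ((x⁻¹ : Rˣ) : R)) *
      D.pp (-(x : R)) := by group
  rw [e2, D.F' y _ u hud]
  have e3 : D.pp (x : R) * D.pm (-((x⁻¹ : Rˣ) : R)) *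
      (D.pm (((x⁻¹ : Rˣ) : R) * ((u⁻¹ : Rˣ) : R)) * D.a u * D.pp (y * ((u⁻¹ : Rˣ) : R))) *
      D.pp (-(x : R)) =
      D.pp (x : R) * (D.pm (-((x⁻¹ : Rˣ) : R)) * D.pm (((x⁻¹ : Rˣ) : R) * ((u⁻¹ : Rˣ) : R))) *
        D.a u * (D.pp (y * ((u⁻¹ : Rˣ) : R)) * D.pp (-(x : R))) := by group
  rw [e3, ← D.pm_add, ← D.pp_add]
  have h2 : ((u⁻¹ : Rˣ) : R) =
      1 + (x : R) * (-((x⁻¹ : Rˣ) : R) + ((x⁻¹ : Rˣ) : R) * ((u⁻¹ : Rˣ) : R)) := by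
    linear_combination (1 - ((u⁻¹ : Rˣ) : R)) * hx
  rw [D.F' (x : R) _ u⁻¹ h2, inv_inv]
  have e4 : D.pm ((-((x⁻¹ : Rˣ) : R) + ((x⁻¹ : Rˣ) : R) * ((u⁻¹ : Rˣ) : R)) * (u : R)) *
      D.a u⁻¹ * D.pp ((x : R) * (u : R)) * D.a u * D.pp (y * ((u⁻¹ : Rˣ) : R) + -(x : R)) =
      D.pm ((-((x⁻¹ : Rˣ) : R) + ((x⁻¹ : Rˣ) : R) * ((u⁻¹ : Rˣ) : R)) * (u : R)) *
      D.a u⁻¹ * (D.pp ((x : R) * (u : R)) * D.a u) *
      D.pp (y * ((u⁻¹ : Rˣ) : R) + -(x : R)) := by group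
  rw [e4, D.pp_a]
  have e5 : D.pm ((-((x⁻¹ : Rˣ) : R) + ((x⁻¹ : Rˣ) : R) * ((u⁻¹ : Rˣ) : R)) * (u : R)) *
      D.a u⁻¹ * (D.a u * D.pp (((u⁻¹ : Rˣ) : R) ^ 2 * ((x : R) * (u : R)))) *
      D.pp (y * ((u⁻¹ : Rˣ) : R) + -(x : R)) =
      D.pm ((-((x⁻¹ : Rˣ) : R) + ((x⁻¹ : Rˣ) : R) * ((u⁻¹ : Rˣ) : R)) * (u : R)) *
      (D.a u⁻¹ * D.a u) * (D.pp (((u⁻¹ : Rˣ) : R) ^ 2 * ((x : R) * (u : R))) *
      D.pp (y * ((u⁻¹ : Rˣ) : R) + -(x : R))) := by group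
  rw [e5, ← D.a_mul, inv_mul_cancel, D.a_one, mul_one, ← D.pp_add]
  have hA : ((u⁻¹ : Rˣ) : R) ^ 2 * ((x : R) * (u : R)) +
      (y * ((u⁻¹ : Rˣ) : R) + -(x : R)) = 0 := by
    linear_combination (((u⁻¹ : Rˣ) : R) * (x : R) + (x : R)) * hu -
      ((u⁻¹ : Rˣ) : R) * y * hx - ((u⁻¹ : Rˣ) : R) * (x : R) * hud
  have hB : (-((x⁻¹ : Rˣ) : R) + ((x⁻¹ : Rˣ) : R) * ((u⁻¹ : Rˣ) : R)) * (u : R) =
      -(((x⁻¹ : Rˣ) : R) ^ 2 * y) := by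
    linear_combination ((x⁻¹ : Rˣ) : R) * hu - ((x⁻¹ : Rˣ) : R) * hud
  rw [hA, D.pp_zero, mul_one, hB]

/-- The conjugation formula is additive in `y`. -/
theorem conj_pp_add (x : Rˣ) (y₁ y₂ : R)
    (h₁ : D.w x * D.pp y₁ * (D.w x)⁻¹ = D.pm (-(((x⁻¹ : Rˣ) : R) ^ 2 * y₁)))
    (h₂ : D.w x * D.pp y₂ * (D.w x)⁻¹ = D.pm (-(((x⁻¹ : Rˣ) : R) ^ 2 * y₂))) :
    D.w x * D.pp (y₁ + y₂) * (D.w x)⁻¹ = D.pm (-(((x⁻¹ : Rˣ) : R) ^ 2 * (y₁ + y₂))) := by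
  have e : D.w x * D.pp (y₁ + y₂) * (D.w x)⁻¹ =
      (D.w x * D.pp y₁ * (D.w x)⁻¹) * (D.w x * D.pp y₂ * (D.w x)⁻¹) := by
    rw [D.pp_add]; group
  rw [e, h₁, h₂, ← D.pm_add]
  congr 1
  ring

/-- If `c` and `d` are units with `c + d = 3`, then `w(x) p₊(x) w(x)⁻¹ = p₋(-x⁻¹)`. -/
theorem conj_pp_self (x c d : Rˣ) (hcd : (c : R) + (d : R) = 3) :
    D.w x * D.pp (x : R) * (D.w x)⁻¹ = D.pm (-((x⁻¹ : Rˣ) : R)) := by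
  have hx : (x : R) * ((x⁻¹ : Rˣ) : R) = 1 := Units.mul_inv x
  have h₁ := conj_pp D x (c * x) (((c : R) - 1) * (x : R)) (by rw [Units.val_mul]; ring)
  have h₂ := conj_pp D x (d * x) (((d : R) - 1) * (x : R)) (by rw [Units.val_mul]; ring)
  have h := conj_pp_add D x _ _ h₁ h₂
  have e1 : ((c : R) - 1) * (x : R) + ((d : R) - 1) * (x : R) = (x : R) := by
    linear_combination (x : R) * hcd
  rw [e1] at h
  rw [h]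
  congr 1
  linear_combination -((x⁻¹ : Rˣ) : R) * hx

/-- `w(x) = w₋(-x⁻¹)` when there are units `c, d` with `c + d = 3`. -/
theorem w_eq_wm (x c d : Rˣ) (hcd : (c : R) + (d : R) = 3) :
    D.w x = wm D (-x⁻¹) := by
  have h := conj_pp_self D x c d hcd
  have e : D.w x = D.pm (-((x⁻¹ : Rˣ) : R)) * (D.w x * (D.pp (x : R))⁻¹) := by
    rw [← h]; group
  have e2 : D.w x * (D.pp (x : R))⁻¹ = D.pp (x : R) * D.pm (-((x⁻¹ : Rˣ) : R)) := by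
    unfold Data.w; group
  rw [e2] at e
  rw [e]
  unfold wm
  simp only [Units.val_neg, inv_neg, inv_inv, neg_neg]
  group

theorem wm_inv_eq (x c d : Rˣ) (hcd : (c : R) + (d : R) = 3) :
    wm D x⁻¹ = (D.w x)⁻¹ := by
  rw [← D.w_neg, w_eq_wm D (-x) c d hcd]
  congr 1
  simp only [inv_neg, neg_neg]

theorem w_mul_wm (x y c d : Rˣ) (hcd : (c : R) + (d : R) = 3) :
    D.w x * wm D y = D.a (x * y) := by
  have h : wm D y = D.w (-y⁻¹) := by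
    rw [w_eq_wm D (-y⁻¹) c d hcd]
    congr 1
    simp only [inv_neg, inv_inv, neg_neg]
  rw [h, D.w_mul_w]
  congr 1
  simp only [inv_neg, inv_inv, mul_neg, neg_neg]

end Groth.Agent.Helper7.RankOneOpp
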