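import Mathlib

set_option linter.style.haveILetI false
set_option linter.unusedVariables false
set_option linter.unusedSectionVars false
set_option autoImplicit false
set_option backward.isDefEq.respectTransparency.types false
set_option synthInstance.maxHeartbeats 400000
set_option maxHeartbeats 1600000

namespace Groth.Agent.Helper7.RankOneOpp

open CategoryTheory CategoryTheory.Limits AlgebraicGeometry Polynomial

universe u

/-! helper7: Faithfully flat cover with a unit c, 3-c unit (helper7) -/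

noncomputable section

/-- The polynomial `X² - 3X + 1`. -/
def qp : Polynomial (ULift.{u} ℤ) := X ^ 2 + (C (-3) * X + C 1)

lemma qp_lin_deg : degree (C (-3 : ULift.{u} ℤ) * X + C 1) < ((2 : ℕ) : WithBot ℕ) := by
  exact_mod_cast degree_linear_lt

lemma qp_monic : (qp.{u}).Monic := monic_X_pow_add qp_lin_deg

lemma qp_natDegree : (qp.{u}).natDegree = 2 := by
  apply natDegree_eq_of_degree_eq_some
  unfold qp
  rw [degree_add_eq_left_of_degree_lt (by rw [degree_X_pow]; exact qp_lin_deg), degree_X_pow]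

instance qb_free : @Module.Free (ULift.{u} ℤ) (AdjoinRoot qp.{u}) _ _ Algebra.toModule :=
  qp_monic.free_adjoinRoot

lemma qb_finrank : @Module.finrank (ULift.{u} ℤ) (AdjoinRoot qp.{u}) _ _ Algebra.toModule = 2 := by
  rw [(AdjoinRoot.powerBasis' qp_monic.{u}).finrank, AdjoinRoot.powerBasis'_dim, qp_natDegree]

instance qb_nontrivial : Nontrivial (AdjoinRoot qp.{u}) := by
  letI : Module (ULift.{u} ℤ) (AdjoinRoot qp.{u}) := Algebra.toModule
  exact Module.nontrivial_of_finrank_pos (R := ULift.{u} ℤ)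
    (lt_of_lt_of_eq zero_lt_two qb_finrank.{u}.symm)

instance qb_flat : @Module.Flat (ULift.{u} ℤ) (AdjoinRoot qp.{u}) _ _ Algebra.toModule :=
  inferInstance

instance qb_fflat : @Module.FaithfullyFlat (ULift.{u} ℤ) (AdjoinRoot qp.{u}) _ _ Algebra.toModule :=
  inferInstance

lemma root_rel (f : Polynomial (ULift.{u} ℤ)) (hf : f = X ^ 2 + (C (-3) * X + C 1)) :
    AdjoinRoot.root f * (3 - AdjoinRoot.root f) = 1 := by
  have h := AdjoinRoot.eval₂_root f
  have e : f.eval₂ (AdjoinRoot.of f) (AdjoinRoot.root f) =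
      (X ^ 2 + (C (-3) * X + C 1) : Polynomial (ULift.{u} ℤ)).eval₂ (AdjoinRoot.of f)
        (AdjoinRoot.root f) :=
    congrArg (fun p : Polynomial (ULift.{u} ℤ) => p.eval₂ (AdjoinRoot.of f) (AdjoinRoot.root f)) hf
  rw [e] at h
  simp only [eval₂_add, eval₂_pow, eval₂_X, eval₂_mul, eval₂_C] at h
  rw [map_neg, map_one, map_ofNat] at h
  linear_combination -h

lemma qc_rel : (AdjoinRoot.root qp.{u}) * (3 - AdjoinRoot.root qp.{u}) = 1 := root_rel qp rfl

/-- The covering morphism `Spec ℤ[c]/(c² - 3c + 1) ⟶ Spec ℤ`. -/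
def qmap : Spec (CommRingCat.of (AdjoinRoot qp.{u})) ⟶ Spec (CommRingCat.of (ULift.{u} ℤ)) :=
  Spec.map (CommRingCat.ofHom (algebraMap (ULift.{u} ℤ) (AdjoinRoot qp.{u})))

instance qmap_flat : Flat qmap.{u} := by
  have h : (algebraMap (ULift.{u} ℤ) (AdjoinRoot qp.{u})).Flat :=
    RingHom.flat_algebraMap_iff.mpr qb_flat
  exact (HasRingHomProperty.Spec_iff (P := @Flat)).mpr h

instance qmap_surj : Surjective qmap.{u} := by
  refine ⟨fun x => ?_⟩
  obtain ⟨y, hy⟩ := PrimeSpectrum.comap_surjective_of_faithfullyFlat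
    (A := ULift.{u} ℤ) (B := AdjoinRoot qp.{u}) x
  exact ⟨y, hy⟩

variable {S : Scheme.{u}}

/-- The unique morphism to `Spec ℤ`. -/
def toZ (Y : Scheme.{u}) : Y ⟶ Spec (CommRingCat.of (ULift.{u} ℤ)) :=
  specULiftZIsTerminal.from Y

/-- The cover `X' = X ×_ℤ Spec ℤ[c]/(c² - 3c + 1)` as an object over `S`. -/
def cov (X : Over S) : Over S := Over.mk (pullback.fst (toZ X.left) qmap ≫ X.hom)

/-- The covering map `X' ⟶ X`. -/
def covMap (X : Over S) : cov X ⟶ X := Over.homMk (pullback.fst (toZ X.left) qmap) rfl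

instance covMap_epi (X : Over S) : Epi (covMap X) := by
  have : Epi (covMap X).left := by
    change Epi (pullback.fst (toZ X.left) qmap)
    exact Flat.epi_of_flat_of_surjective _
  exact Over.epi_of_epi_left _

/-- The ring map `ℤ[c]/(c² - 3c + 1) → Γ(X')`. -/
def covHom (X : Over S) : AdjoinRoot qp.{u} →+* Γ((cov X).left, ⊤) :=
  ((pullback.snd (toZ X.left) qmap).appTop.hom).comp
    (Scheme.ΓSpecIso (CommRingCat.of (AdjoinRoot qp.{u}))).inv.hom

/-- The element `c` of `Γ(X')`. -/
def covC (X : Over S) : Γ((cov X).left, ⊤) := covHom X (AdjoinRoot.root qp)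

lemma covC_rel (X : Over S) : covC X * (3 - covC X) = 1 := by
  have h := congrArg (covHom X) qc_rel
  unfold covC
  simpa only [map_mul, map_sub, map_ofNat, map_one] using h

/-- The unit `c` of `Γ(X')`. -/
def covU (X : Over S) : (Γ((cov X).left, ⊤))ˣ where
  val := covC X
  inv := 3 - covC X
  val_inv := covC_rel X
  inv_val := by rw [mul_comm]; exact covC_rel X

lemma covU_add (X : Over S) :
    ((covU X : (Γ((cov X).left, ⊤))ˣ) : Γ((cov X).left, ⊤)) +
      (((covU X)⁻¹ : (Γ((cov X).left, ⊤))ˣ) : Γ((cov X).left, ⊤)) = 3 := by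
  change covC X + (3 - covC X) = 3
  ring

end

end Groth.Agent.Helper7.RankOneOpp
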