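import Mathlib
import Groth.Prelude.Def_GmPts
import Groth.Agent.Lib.Helper6.RankOne.Scheme
import Groth.Agent.Lib.Helper7.RankOneOpp.Abs
import Groth.Agent.Lib.Helper7.RankOneOpp.Cover

set_option linter.style.haveILetI false
set_option linter.unusedVariables false
set_option linter.unusedSectionVars false
set_option autoImplicit false
set_option backward.isDefEq.respectTransparency.types false
set_option synthInstance.maxHeartbeats 400000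
set_option maxHeartbeats 1600000

namespace Groth.Agent.Helper7.RankOneOpp

open CategoryTheory CategoryTheory.Limits MonoidalCategory CartesianMonoidalCategory MonObj GrpObj
  AlgebraicGeometry Opposite
open Groth.Agent.Lib.Helper6.RankOne Groth.Agent.Lib.Helper6.GaGm

universe u

/-! helper7: w(x) p(x) w(x)^-1 = pm(-1/x) and cube relation, by descent (helper7) -/

section Abstract

variable {Γ R Tg : Type*} [Group Γ] [CommRing R] [Group Tg] (D : Data Γ R Tg)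

theorem w_eq_pm_pp_pm (x c d : Rˣ) (hcd : (c : R) + (d : R) = 3) :
    D.w x = D.pm (-((x⁻¹ : Rˣ) : R)) * D.pp (x : R) * D.pm (-((x⁻¹ : Rˣ) : R)) := by
  have h := w_eq_wm D x c d hcd
  unfold wm at h
  simpa only [Units.val_neg, inv_neg, _root_.inv_inv, neg_neg] using h

theorem w_pp_cube (x c d : Rˣ) (hcd : (c : R) + (d : R) = 3) :
    (D.w x * D.pp (x : R)) ^ 3 = 1 := by
  have hq := w_eq_pm_pp_pm D x c d hcd
  have hp : D.w x = D.pp (x : R) * D.pm (-((x⁻¹ : Rˣ) : R)) * D.pp (x : R) := rfl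
  have hw2 : D.w x * D.w x = D.a (-1) := by rw [← pow_two]; exact D.w_sq x
  have h11 : (-1 : Rˣ) * -1 = 1 := by simp
  have haa : D.a (-1) * D.a (-1) = 1 := by rw [← D.a_mul, h11, D.a_one]
  have e : (D.w x * D.pp (x : R)) ^ 3 = (D.w x * D.w x) * (D.w x * D.w x) := by
    calc (D.w x * D.pp (x : R)) ^ 3
        = (D.pm (-((x⁻¹ : Rˣ) : R)) * D.pp (x : R) * D.pm (-((x⁻¹ : Rˣ) : R)) * D.pp (x : R)) ^ 3 := by
          rw [← hq]
      _ = (D.pm (-((x⁻¹ : Rˣ) : R)) * D.pp (x : R) * D.pm (-((x⁻¹ : Rˣ) : R))) *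
            (D.pp (x : R) * D.pm (-((x⁻¹ : Rˣ) : R)) * D.pp (x : R)) *
          ((D.pm (-((x⁻¹ : Rˣ) : R)) * D.pp (x : R) * D.pm (-((x⁻¹ : Rˣ) : R))) *
            (D.pp (x : R) * D.pm (-((x⁻¹ : Rˣ) : R)) * D.pp (x : R))) := by
          simp only [pow_succ, pow_zero, _root_.one_mul, _root_.mul_assoc]
      _ = (D.w x * D.w x) * (D.w x * D.w x) := by rw [← hq, ← hp]
  rw [e, hw2, haa]

end Abstract

variable {S : Scheme.{u}} {G T : Over S} [GrpObj G] [GrpObj T] (i : T ⟶ G) [IsMonHom i]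
    (α : T ⟶ Red.Gm S) [IsMonHom α]
    (pp pm : Red.Ga S ⟶ G) [IsMonHom pp] [IsMonHom pm]
    (hpp : ∀ (X : Over S) (t : X ⟶ T) (x : X ⟶ Red.Ga S), ∃ x' : X ⟶ Red.Ga S,
      x' ≫ pp = (t ≫ i) * (x ≫ pp) * (t ≫ i)⁻¹ ∧ Red.gaFn x' = Red.gmFn (t ≫ α) * Red.gaFn x)
    (hpm : ∀ (X : Over S) (t : X ⟶ T) (y : X ⟶ Red.Ga S), ∃ y' : X ⟶ Red.Ga S,
      y' ≫ pm = (t ≫ i) * (y ≫ pm) * (t ≫ i)⁻¹ ∧ Red.gaFn y' * Red.gmFn (t ≫ α) = Red.gaFn y)
    (av : Red.Gm S ⟶ T) [IsMonHom av] (h2 : av ≫ α = (𝟙 (Red.Gm S)) ^ 2)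
    (hF : ∀ (X : Over S) (x y : X ⟶ Red.Ga S), IsUnit (1 + Red.gaFn x * Red.gaFn y) →
      ∃ (x' y' : X ⟶ Red.Ga S) (z : X ⟶ Red.Gm S), Red.gmFn z = 1 + Red.gaFn x * Red.gaFn y ∧
        Red.gaFn x' * Red.gmFn z = Red.gaFn x ∧ Red.gaFn y' * Red.gmFn z = Red.gaFn y ∧
        (x ≫ pp) * (y ≫ pm) = (y' ≫ pm) * (z ≫ av ≫ i) * (x' ≫ pp))

include hpp hpm h2 hF in
theorem cube_of_units (X : Over S) (c d : (Γ(X.left, ⊤))ˣ)
    (hcd : (c : Γ(X.left, ⊤)) + (d : Γ(X.left, ⊤)) = 3)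
    (x x' : X ⟶ Red.Ga S) (hx : Red.gaFn x' * Red.gaFn x = -1) :
    ((x ≫ pp) * (x' ≫ pm) * (x ≫ pp)) * (x ≫ pp) * ((x ≫ pp) * (x' ≫ pm) * (x ≫ pp))⁻¹ = x' ≫ pm ∧
      (((x ≫ pp) * (x' ≫ pm) * (x ≫ pp)) * (x ≫ pp)) ^ 3 = 1 := by
  have hwx := w_eq i α pp pm hpp hpm av h2 hF X x x' hx
  have hp := mkData_pp' i α pp pm hpp hpm av h2 hF X x (Red.gaFn x) rfl
  have hm := mkData_pm' i α pp pm hpp hpm av h2 hF X x' (Red.gaFn x') rfl
  rw [hwx, hp, hm]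
  refine ⟨?_, ?_⟩
  · refine (conj_pp_self _ (unitOf X (Red.gaFn x) (Red.gaFn x') hx) c d hcd).trans ?_
    congr 1
    change - - Red.gaFn x' = Red.gaFn x'
    exact neg_neg _
  · exact w_pp_cube _ (unitOf X (Red.gaFn x) (Red.gaFn x') hx) c d hcd

include hpp hpm h2 hF in
theorem cube_main (X : Over S)
    (x x' : X ⟶ Red.Ga S) (hx : Red.gaFn x' * Red.gaFn x = -1) :
    ((x ≫ pp) * (x' ≫ pm) * (x ≫ pp)) * (x ≫ pp) * ((x ≫ pp) * (x' ≫ pm) * (x ≫ pp))⁻¹ = x' ≫ pm ∧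
      (((x ≫ pp) * (x' ≫ pm) * (x ≫ pp)) * (x ≫ pp)) ^ 3 = 1 := by
  have key := cube_of_units i α pp pm hpp hpm av h2 hF (cov X) (covU X) (covU X)⁻¹ (covU_add X)
    (covMap X ≫ x) (covMap X ≫ x')
    (by rw [gaFn_comp, gaFn_comp, ← map_mul, hx, map_neg, map_one])
  obtain ⟨k1, k2⟩ := key
  simp only [Category.assoc] at k1 k2
  refine ⟨?_, ?_⟩
  · rw [← cancel_epi (covMap X)]
    simp only [MonObj.comp_mul, GrpObj.comp_inv]
    exact k1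
  · rw [← cancel_epi (covMap X)]
    simp only [MonObj.comp_mul, MonObj.comp_pow, MonObj.comp_one]
    exact k2

end Groth.Agent.Helper7.RankOneOpp
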