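import Mathlib
import Groth.Prelude.Def_GmPts
import Groth.Agent.Lib.Helper6.RankOne.Scheme
import Groth.Agent.Lib.Helper7.RankOneOpp.Abs
import Groth.Agent.Lib.Helper7.RankOneOpp.Cover

set_option linter.style.haveILetI false
set_option linter.unusedVariables false
set_option linter.unusedSectionVars false
set_option autoImplicit false
set_option backward.isDefEq.respectTransparency.types false
set_option synthInstance.maxHeartbeats 400000
set_option maxHeartbeats 1600000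

namespace Groth.Agent.Helper7.RankOneOpp

open CategoryTheory CategoryTheory.Limits MonoidalCategory CartesianMonoidalCategory MonObj GrpObj
  AlgebraicGeometry Opposite
open Groth.Agent.Lib.Helper6.RankOne Groth.Agent.Lib.Helper6.GaGm

universe u

/-! helper7: Opposite Weyl element identities for rank-one data of group schemes, by descent (helper7) -/

variable {S : Scheme.{u}} {G T : Over S} [GrpObj G] [GrpObj T] (i : T ⟶ G) [IsMonHom i]
    (α : T ⟶ Red.Gm S) [IsMonHom α]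
    (pp pm : Red.Ga S ⟶ G) [IsMonHom pp] [IsMonHom pm]
    (hpp : ∀ (X : Over S) (t : X ⟶ T) (x : X ⟶ Red.Ga S), ∃ x' : X ⟶ Red.Ga S,
      x' ≫ pp = (t ≫ i) * (x ≫ pp) * (t ≫ i)⁻¹ ∧ Red.gaFn x' = Red.gmFn (t ≫ α) * Red.gaFn x)
    (hpm : ∀ (X : Over S) (t : X ⟶ T) (y : X ⟶ Red.Ga S), ∃ y' : X ⟶ Red.Ga S,
      y' ≫ pm = (t ≫ i) * (y ≫ pm) * (t ≫ i)⁻¹ ∧ Red.gaFn y' * Red.gmFn (t ≫ α) = Red.gaFn y)
    (av : Red.Gm S ⟶ T) [IsMonHom av] (h2 : av ≫ α = (𝟙 (Red.Gm S)) ^ 2)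
    (hF : ∀ (X : Over S) (x y : X ⟶ Red.Ga S), IsUnit (1 + Red.gaFn x * Red.gaFn y) →
      ∃ (x' y' : X ⟶ Red.Ga S) (z : X ⟶ Red.Gm S), Red.gmFn z = 1 + Red.gaFn x * Red.gaFn y ∧
        Red.gaFn x' * Red.gmFn z = Red.gaFn x ∧ Red.gaFn y' * Red.gmFn z = Red.gaFn y ∧
        (x ≫ pp) * (y ≫ pm) = (y' ≫ pm) * (z ≫ av ≫ i) * (x' ≫ pp))

/-- The opposite Weyl element in terms of points. -/
lemma wm_eq (X : Over S) (y y' : X ⟶ Red.Ga S) (hy : Red.gaFn y' * Red.gaFn y = -1) :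
    (y ≫ pm) * (y' ≫ pp) * (y ≫ pm) =
      wm (mkData i α pp pm hpp hpm av h2 hF X) (unitOf X (Red.gaFn y) (Red.gaFn y') hy) := by
  unfold wm
  rw [mkData_pp' i α pp pm hpp hpm av h2 hF X y' (Red.gaFn y') rfl,
    mkData_pm' i α pp pm hpp hpm av h2 hF X y (Red.gaFn y) rfl]
  congr 3
  change _ = - - Red.gaFn y'
  rw [neg_neg]

include hpp hpm h2 hF in
/-- The three identities, over an `X` with units `c, d`, `c + d = 3`. -/
theorem main_of_units (X : Over S) (c d : (Γ(X.left, ⊤))ˣ)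
    (hcd : (c : Γ(X.left, ⊤)) + (d : Γ(X.left, ⊤)) = 3)
    (x x' nx nx' y y' : X ⟶ Red.Ga S) (hx : Red.gaFn x' * Red.gaFn x = -1)
    (hnx : Red.gaFn nx = - Red.gaFn x)
    (hnx' : Red.gaFn nx' = - Red.gaFn x') (hy : Red.gaFn y' * Red.gaFn y = -1) (z : X ⟶ Red.Gm S)
    (hz : Red.gmFn z = Red.gaFn x * Red.gaFn y) :
    (nx' ≫ pm) * (nx ≫ pp) * (nx' ≫ pm) = ((x ≫ pp) * (x' ≫ pm) * (x ≫ pp))⁻¹ ∧
      (nx ≫ pp) * (nx' ≫ pm) * (nx ≫ pp) = ((x ≫ pp) * (x' ≫ pm) * (x ≫ pp))⁻¹ ∧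
      ((x ≫ pp) * (x' ≫ pm) * (x ≫ pp)) * ((y ≫ pm) * (y' ≫ pp) * (y ≫ pm)) = z ≫ av ≫ i := by
  have hwx := w_eq i α pp pm hpp hpm av h2 hF X x x' hx
  have hnn : Red.gaFn nx' * Red.gaFn nx = -1 := by rw [hnx, hnx', neg_mul_neg, hx]
  have hnn' : Red.gaFn nx * Red.gaFn nx' = -1 := by rw [mul_comm]; exact hnn
  have hwn := w_eq i α pp pm hpp hpm av h2 hF X nx nx' hnn
  have hwmn := wm_eq i α pp pm hpp hpm av h2 hF X nx' nx hnn'
  have hwmy := wm_eq i α pp pm hpp hpm av h2 hF X y y' hy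
  have hu1 : unitOf X (Red.gaFn nx') (Red.gaFn nx) hnn' =
      (unitOf X (Red.gaFn x) (Red.gaFn x') hx)⁻¹ := by
    apply Units.ext
    change Red.gaFn nx' = - Red.gaFn x'
    exact hnx'
  have hu2 : unitOf X (Red.gaFn nx) (Red.gaFn nx') hnn =
      -(unitOf X (Red.gaFn x) (Red.gaFn x') hx) := by
    apply Units.ext
    rw [Units.val_neg]
    exact hnx
  refine ⟨?_, ?_, ?_⟩
  · rw [hwmn, hwx, hu1]
    exact wm_inv_eq _ _ c d hcd
  · rw [hwn, hwx, hu2]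
    exact Data.w_neg _ _
  · rw [hwx, hwmy,
      mkData_a' i α pp pm hpp hpm av h2 hF X z
        (unitOf X (Red.gaFn x) (Red.gaFn x') hx * unitOf X (Red.gaFn y) (Red.gaFn y') hy)
        (by rw [Units.val_mul]; exact hz)]
    exact w_mul_wm _ _ _ c d hcd

include hpp hpm h2 hF in
/-- The three identities in general, by descent along the cover. -/
theorem main (X : Over S)
    (x x' nx nx' y y' : X ⟶ Red.Ga S) (hx : Red.gaFn x' * Red.gaFn x = -1)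
    (hnx : Red.gaFn nx = - Red.gaFn x)
    (hnx' : Red.gaFn nx' = - Red.gaFn x') (hy : Red.gaFn y' * Red.gaFn y = -1) (z : X ⟶ Red.Gm S)
    (hz : Red.gmFn z = Red.gaFn x * Red.gaFn y) :
    (nx' ≫ pm) * (nx ≫ pp) * (nx' ≫ pm) = ((x ≫ pp) * (x' ≫ pm) * (x ≫ pp))⁻¹ ∧
      (nx ≫ pp) * (nx' ≫ pm) * (nx ≫ pp) = ((x ≫ pp) * (x' ≫ pm) * (x ≫ pp))⁻¹ ∧
      ((x ≫ pp) * (x' ≫ pm) * (x ≫ pp)) * ((y ≫ pm) * (y' ≫ pp) * (y ≫ pm)) = z ≫ av ≫ i := by
  have key := main_of_units i α pp pm hpp hpm av h2 hF (cov X) (covU X) (covU X)⁻¹ (covU_add X)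
    (covMap X ≫ x) (covMap X ≫ x') (covMap X ≫ nx) (covMap X ≫ nx') (covMap X ≫ y)
    (covMap X ≫ y')
    (by rw [gaFn_comp, gaFn_comp, ← map_mul, hx, map_neg, map_one])
    (by rw [gaFn_comp, gaFn_comp, hnx, map_neg])
    (by rw [gaFn_comp, gaFn_comp, hnx', map_neg])
    (by rw [gaFn_comp, gaFn_comp, ← map_mul, hy, map_neg, map_one])
    (covMap X ≫ z)
    (by rw [GmPts.gmFn_comp, gaFn_comp, gaFn_comp, hz, map_mul]; try rfl)
  obtain ⟨k1, k2, k3⟩ := key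
  simp only [Category.assoc] at k1 k2 k3
  refine ⟨?_, ?_, ?_⟩
  · rw [← cancel_epi (covMap X)]
    simp only [MonObj.comp_mul, GrpObj.comp_inv]
    exact k1
  · rw [← cancel_epi (covMap X)]
    simp only [MonObj.comp_mul, GrpObj.comp_inv]
    exact k2
  · rw [← cancel_epi (covMap X)]
    simp only [MonObj.comp_mul]
    exact k3

end Groth.Agent.Helper7.RankOneOpp
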